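import Cfsg.Agent.TAB.Eng.Defs

/-!
# The 173 types of elements of the Baby Monster (helper51, TAB): data

The types are the rational classes, with 16C, 16F merged and 18A, 18B merged (names: notes/TAB/Bclasses51.txt).
`val` is the trace on the space of dimension 4371, `cthree` the character of degree 96255.
-/

set_option autoImplicit false
set_option maxRecDepth 100000

namespace Cfsg.Agent.TAB.B

open Cfsg.Agent.TAB.Eng

/-- the data -/
def dat : Dat where
  n := 173
  N := 4154781481226426191177580544000000
  ordL := [1, 2, 2, 2, 2, 3, 3, 4, 4, 4, 4, 4, 4, 4, 4, 4, 4, 5, 5, 6, 6, 6, 6, 6, 6, 6, 6, 6, 6, 6, 7, 8, 8, 8,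
    8, 8, 8, 8, 8, 8, 8, 8, 8, 8, 8, 9, 9, 10, 10, 10, 10, 10, 10, 11, 12, 12, 12, 12, 12, 12, 12, 12, 12, 12,
    12, 12, 12, 12, 12, 12, 12, 12, 12, 12, 13, 14, 14, 14, 14, 14, 15, 15, 16, 16, 16, 16, 16, 16, 16, 17, 18,
    18, 18, 18, 18, 19, 20, 20, 20, 20, 20, 20, 20, 20, 20, 20, 21, 22, 22, 23, 24, 24, 24, 24, 24, 24, 24, 24,
    24, 24, 24, 24, 24, 24, 25, 26, 26, 27, 28, 28, 28, 28, 28, 30, 30, 30, 30, 30, 30, 30, 31, 32, 32, 33, 34,
    34, 35, 36, 36, 36, 38, 39, 40, 40, 40, 40, 40, 42, 42, 42, 44, 46, 47, 48, 48, 52, 55, 56, 60, 60, 60, 66,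
    70]
  cntL := [1, 13571955000, 11707448673375, 156849238149120000, 355438141723665000, 10725600877608960000,
    63622675428068556800000, 11167220161790784000, 37913401783857600000, 20473236963283104000000,
    21838119427501977600000, 43676238855003955200000, 171975190491578073600000, 687900761966312294400000,
    13758015239326245888000000, 28898887395015540080640000, 33019236574382990131200000,
    9367743238695946498867200, 692463580204404365196263424, 37646859080407449600000, 662584719815171112960000,
    13044636671361181286400000, 103068734193471062016000000, 208714186741778900582400000,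
    238530499133461600665600000, 278285582322371867443200000, 391339100140835438592000000,
    417428373483557801164800000, 8348567469671156023296000000, 11131423292894874697728000000,
    7360369687546815106252800000, 10482297325200949248000000, 352205190126751894732800000,
    352205190126751894732800000, 660384731487659802624000000, 704410380253503789465600000,
    2641538925950639210496000000, 2817641521014015157862400000, 7924616777851917631488000000,
    21132311407605113683968000000, 42264622815210227367936000000, 42264622815210227367936000000,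
    50717547378252272841523200000, 126793868445630682103808000000, 338116982521681818943488000000,
    237470363581757326884864000000, 356205545372635990327296000000, 10304517562565541148753920000,
    54098717203469091030958080000, 144263245875917576082554880000, 173115895051101091299065856000,
    216394868813876364123832320000, 432789737627752728247664640000, 3147561728201838023619379200000,
    1043570933708894502912000000, 5565711646447437348864000000, 5635283042028030315724800000,
    6261425602253367017472000000, 15027421445408080841932800000, 30054842890816161683865600000,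
    56352830420280303157248000000, 75137107227040404209664000000, 112705660840560606314496000000,
    150274214454080808419328000000, 200365619272107744559104000000, 225411321681121212628992000000,
    300548428908161616838656000000, 400731238544215489118208000000, 450822643362242425257984000000,
    450822643362242425257984000000, 450822643362242425257984000000, 2704935860173454551547904000000,
    3606581146897939402063872000000, 4808774862530585869418496000000, 13316607311623160869158912000000,
    7360369687546815106252800000, 883244362505617812750336000000, 883244362505617812750336000000,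
    2318516451577246758469632000000, 2318516451577246758469632000000, 1154105967007340608660439040000,
    34623179010220218259813171200000, 338116982521681818943488000000, 338116982521681818943488000000,
    6086105685390272740982784000000, 2028701895130090913660928000000, 2028701895130090913660928000000,
    16229615161040727309287424000000, 16229615161040727309287424000000, 61099727665094502811435008000000,
    9617549725061171738836992000000, 9617549725061171738836992000000, 9617549725061171738836992000000,
    19235099450122343477673984000000, 19235099450122343477673984000000, 109336354769116478715199488000000,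
    108197434406938182061916160000, 1038695370306606547794395136000, 1298369212883258184742993920000,
    1622961516104072730928742400000, 4327897376277527282476646400000, 6491846064416290923714969600000,
    8655794752555054564953292800000, 10386953703066065477943951360000, 25967384257665163694859878400000,
    51934768515330327389719756800000, 16487228100104865838006272000000, 31475617282018380236193792000000,
    47213425923027570354290688000000, 180642673096801138746851328000000, 1803290573448969701031936000000,
    1803290573448969701031936000000, 1803290573448969701031936000000, 1803290573448969701031936000000,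
    1803290573448969701031936000000, 2404387431265292934709248000000, 5409871720346909103095808000000,
    7213162293795878804127744000000, 7213162293795878804127744000000, 21639486881387636412383232000000,
    21639486881387636412383232000000, 21639486881387636412383232000000, 43278973762775272824766464000000,
    43278973762775272824766464000000, 166191259249057047647103221760000, 39949821934869482607476736000000,
    79899643869738965214953472000000, 153880795600978747821391872000000, 9274065806308987033878528000000,
    9274065806308987033878528000000, 18548131612617974067757056000000, 18548131612617974067757056000000,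
    37096263225235948135514112000000, 1154105967007340608660439040000, 11541059670073406086604390400000,
    11541059670073406086604390400000, 17311589505110109129906585600000, 17311589505110109129906585600000,
    34623179010220218259813171200000, 138492716040880873039252684800000, 268050418143640399430811648000000,
    64918460644162909237149696000000, 64918460644162909237149696000000, 62951234564036760472387584000000,
    122199455330189005622870016000000, 61099727665094502811435008000000, 59354021160377517016822579200000,
    19235099450122343477673984000000, 57705298350367030433021952000000, 115410596700734060866043904000000,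
    109336354769116478715199488000000, 106532858492985286953271296000000, 12983692128832581847429939200000,
    12983692128832581847429939200000, 25967384257665163694859878400000, 51934768515330327389719756800000,
    103869537030660654779439513600000, 16487228100104865838006272000000, 49461684300314597514018816000000,
    49461684300314597514018816000000, 94426851846055140708581376000000, 180642673096801138746851328000000,
    176799211967081965582024704000000, 43278973762775272824766464000000, 43278973762775272824766464000000,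
    79899643869738965214953472000000, 75541481476844112566865100800000, 74192526450471896271028224000000,
    34623179010220218259813171200000, 34623179010220218259813171200000, 69246358020440436519626342400000,
    62951234564036760472387584000000, 59354021160377517016822579200000]
  pwL := [[], [(1, 1)], [(1, 2)], [(1, 3)], [(1, 4)], [(1, 5)], [(1, 6)], [(1, 7), (2, 2)], [(1, 8), (2, 2)],
    [(1, 9), (2, 2)], [(1, 10), (2, 2)], [(1, 11), (2, 4)], [(1, 12), (2, 2)], [(1, 13), (2, 2)], [(1, 14),
    (2, 4)], [(1, 15), (2, 3)], [(1, 16), (2, 4)], [(1, 17)], [(1, 18)], [(1, 19), (2, 5), (3, 1)], [(1, 20),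
    (2, 5), (3, 1)], [(1, 21), (2, 5), (3, 2)], [(1, 22), (2, 6), (3, 1)], [(1, 23), (2, 5), (3, 4)], [(1, 24),
    (2, 5), (3, 3)], [(1, 25), (2, 6), (3, 2)], [(1, 26), (2, 5), (3, 4)], [(1, 27), (2, 6), (3, 4)], [(1, 28),
    (2, 6), (3, 4)], [(1, 29), (2, 6), (3, 3)], [(1, 30)], [(1, 31), (2, 9), (4, 2)], [(1, 32), (2, 8), (4, 2)],
    [(1, 33), (2, 8), (4, 2)], [(1, 34), (2, 9), (4, 2)], [(1, 35), (2, 8), (4, 2)], [(1, 36), (2, 9), (4, 2)],
    [(1, 37), (2, 11), (4, 4)], [(1, 38), (2, 9), (4, 2)], [(1, 39), (2, 12), (4, 2)], [(1, 40), (2, 14),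
    (4, 4)], [(1, 41), (2, 11), (4, 4)], [(1, 42), (2, 13), (4, 2)], [(1, 43), (2, 14), (4, 4)], [(1, 44),
    (2, 16), (4, 4)], [(1, 45), (3, 6)], [(1, 46), (3, 6)], [(1, 47), (2, 17), (5, 1)], [(1, 48), (2, 17),
    (5, 2)], [(1, 49), (2, 17), (5, 3)], [(1, 50), (2, 18), (5, 2)], [(1, 51), (2, 17), (5, 4)], [(1, 52),
    (2, 18), (5, 4)], [(1, 53)], [(1, 54), (2, 21), (3, 8), (4, 5), (6, 2)], [(1, 55), (2, 25), (3, 8), (4, 6),
    (6, 2)], [(1, 56), (2, 21), (3, 7), (4, 5), (6, 2)], [(1, 57), (2, 21), (3, 8), (4, 5), (6, 2)], [(1, 58),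
    (2, 21), (3, 10), (4, 5), (6, 2)], [(1, 59), (2, 27), (3, 11), (4, 6), (6, 4)], [(1, 60), (2, 21), (3, 9),
    (4, 5), (6, 2)], [(1, 61), (2, 21), (3, 10), (4, 5), (6, 2)], [(1, 62), (2, 21), (3, 12), (4, 5), (6, 2)],
    [(1, 63), (2, 26), (3, 11), (4, 5), (6, 4)], [(1, 64), (2, 25), (3, 10), (4, 6), (6, 2)], [(1, 65), (2, 21),
    (3, 13), (4, 5), (6, 2)], [(1, 66), (2, 25), (3, 9), (4, 6), (6, 2)], [(1, 67), (2, 28), (3, 11), (4, 6),
    (6, 4)], [(1, 68), (2, 25), (3, 12), (4, 6), (6, 2)], [(1, 69), (2, 26), (3, 14), (4, 5), (6, 4)], [(1, 70),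
    (2, 27), (3, 14), (4, 6), (6, 4)], [(1, 71), (2, 27), (3, 16), (4, 6), (6, 4)], [(1, 72), (2, 28), (3, 14),
    (4, 6), (6, 4)], [(1, 73), (2, 29), (3, 15), (4, 6), (6, 3)], [(1, 74)], [(1, 75), (2, 30), (7, 1)],
    [(1, 76), (2, 30), (7, 1)], [(1, 77), (2, 30), (7, 3)], [(1, 78), (2, 30), (7, 2)], [(1, 79), (2, 30),
    (7, 4)], [(1, 80), (3, 17), (5, 5)], [(1, 81), (3, 18), (5, 6)], [(1, 82), (2, 34), (4, 9), (8, 2)],
    [(1, 83), (2, 34), (4, 9), (8, 2)], [(1, 84), (2, 38), (4, 9), (8, 2)], [(1, 85), (2, 38), (4, 9), (8, 2)],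
    [(1, 86), (2, 34), (4, 9), (8, 2)], [(1, 87), (2, 43), (4, 14), (8, 4)], [(1, 88), (2, 40), (4, 14),
    (8, 4)], [(1, 89)], [(1, 90), (2, 46), (3, 22), (6, 6), (9, 1)], [(1, 91), (2, 46), (3, 25), (6, 6),
    (9, 2)], [(1, 92), (2, 46), (3, 28), (6, 6), (9, 4)], [(1, 93), (2, 45), (3, 28), (6, 6), (9, 4)], [(1, 94),
    (2, 46), (3, 29), (6, 6), (9, 3)], [(1, 95)], [(1, 96), (2, 48), (4, 17), (5, 7), (10, 2)], [(1, 97),
    (2, 50), (4, 18), (5, 7), (10, 2)], [(1, 98), (2, 48), (4, 17), (5, 7), (10, 2)], [(1, 99), (2, 48),
    (4, 17), (5, 8), (10, 2)], [(1, 100), (2, 48), (4, 17), (5, 10), (10, 2)], [(1, 101), (2, 48), (4, 17),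
    (5, 13), (10, 2)], [(1, 102), (2, 52), (4, 18), (5, 11), (10, 4)], [(1, 103), (2, 49), (4, 17), (5, 15),
    (10, 3)], [(1, 104), (2, 50), (4, 18), (5, 12), (10, 2)], [(1, 105), (2, 52), (4, 18), (5, 16), (10, 4)],
    [(1, 106), (3, 30), (7, 5)], [(1, 107), (2, 53), (11, 1)], [(1, 108), (2, 53), (11, 2)], [(1, 109)],
    [(1, 110), (2, 57), (3, 35), (4, 21), (6, 8), (8, 5), (12, 2)], [(1, 111), (2, 60), (3, 31), (4, 21),
    (6, 9), (8, 5), (12, 2)], [(1, 112), (2, 57), (3, 33), (4, 21), (6, 8), (8, 5), (12, 2)], [(1, 113),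
    (2, 57), (3, 32), (4, 21), (6, 8), (8, 5), (12, 2)], [(1, 114), (2, 57), (3, 35), (4, 21), (6, 8), (8, 5),
    (12, 2)], [(1, 115), (2, 66), (3, 31), (4, 25), (6, 9), (8, 6), (12, 2)], [(1, 116), (2, 60), (3, 34),
    (4, 21), (6, 9), (8, 5), (12, 2)], [(1, 117), (2, 59), (3, 37), (4, 27), (6, 11), (8, 6), (12, 4)],
    [(1, 118), (2, 63), (3, 37), (4, 26), (6, 11), (8, 5), (12, 4)], [(1, 119), (2, 70), (3, 40), (4, 27),
    (6, 14), (8, 6), (12, 4)], [(1, 120), (2, 66), (3, 36), (4, 25), (6, 9), (8, 6), (12, 2)], [(1, 121),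
    (2, 63), (3, 41), (4, 26), (6, 11), (8, 5), (12, 4)], [(1, 122), (2, 71), (3, 44), (4, 27), (6, 16), (8, 6),
    (12, 4)], [(1, 123), (2, 68), (3, 39), (4, 25), (6, 12), (8, 6), (12, 2)], [(1, 124), (5, 18)], [(1, 125),
    (2, 74), (13, 3)], [(1, 126), (2, 74), (13, 1)], [(1, 127), (3, 45), (9, 6)], [(1, 128), (2, 78), (4, 30),
    (7, 8), (14, 2)], [(1, 129), (2, 78), (4, 30), (7, 9), (14, 2)], [(1, 130), (2, 78), (4, 30), (7, 7),
    (14, 2)], [(1, 131), (2, 78), (4, 30), (7, 10), (14, 2)], [(1, 132), (2, 79), (4, 30), (7, 11), (14, 4)],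
    [(1, 133), (2, 80), (3, 47), (5, 20), (6, 17), (10, 5), (15, 1)], [(1, 134), (2, 80), (3, 47), (5, 19),
    (6, 17), (10, 5), (15, 1)], [(1, 135), (2, 80), (3, 49), (5, 24), (6, 17), (10, 5), (15, 3)], [(1, 136),
    (2, 80), (3, 51), (5, 23), (6, 17), (10, 5), (15, 4)], [(1, 137), (2, 80), (3, 48), (5, 21), (6, 17),
    (10, 5), (15, 2)], [(1, 138), (2, 81), (3, 52), (5, 27), (6, 18), (10, 6), (15, 4)], [(1, 139), (2, 81),
    (3, 50), (5, 25), (6, 18), (10, 6), (15, 2)], [(1, 140)], [(1, 141), (2, 85), (4, 38), (8, 9), (16, 2)],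
    [(1, 142), (2, 84), (4, 38), (8, 9), (16, 2)], [(1, 143), (3, 53), (11, 5)], [(1, 144), (2, 89), (17, 1)],
    [(1, 145), (2, 89), (17, 3)], [(1, 146), (5, 30), (7, 17)], [(1, 147), (2, 91), (3, 55), (4, 46), (6, 25),
    (9, 8), (12, 6), (18, 2)], [(1, 148), (2, 91), (3, 64), (4, 46), (6, 25), (9, 10), (12, 6), (18, 2)],
    [(1, 149), (2, 93), (3, 67), (4, 45), (6, 28), (9, 11), (12, 6), (18, 4)], [(1, 150), (2, 95), (19, 1)],
    [(1, 151), (3, 74), (13, 5)], [(1, 152), (2, 99), (4, 48), (5, 33), (8, 17), (10, 8), (20, 2)], [(1, 153),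
    (2, 99), (4, 48), (5, 32), (8, 17), (10, 8), (20, 2)], [(1, 154), (2, 99), (4, 48), (5, 35), (8, 17),
    (10, 8), (20, 2)], [(1, 155), (2, 101), (4, 48), (5, 42), (8, 17), (10, 13), (20, 2)], [(1, 156), (2, 102),
    (4, 52), (5, 37), (8, 18), (10, 11), (20, 4)], [(1, 157), (2, 106), (3, 75), (6, 30), (7, 20), (14, 5),
    (21, 1)], [(1, 158), (2, 106), (3, 76), (6, 30), (7, 19), (14, 5), (21, 1)], [(1, 159), (2, 106), (3, 77),
    (6, 30), (7, 24), (14, 5), (21, 3)], [(1, 160), (2, 108), (4, 53), (11, 7), (22, 2)], [(1, 161), (2, 109),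
    (23, 2)], [(1, 162)], [(1, 163), (2, 116), (3, 82), (4, 60), (6, 34), (8, 21), (12, 9), (16, 5), (24, 2)],
    [(1, 164), (2, 116), (3, 83), (4, 60), (6, 34), (8, 21), (12, 9), (16, 5), (24, 2)], [(1, 165), (2, 125),
    (4, 74), (13, 15), (26, 3)], [(1, 166), (5, 53), (11, 17)], [(1, 167), (2, 129), (4, 78), (7, 31), (8, 30),
    (14, 9), (28, 2)], [(1, 168), (2, 137), (3, 96), (4, 80), (5, 56), (6, 48), (10, 21), (12, 17), (15, 7),
    (20, 5), (30, 2)], [(1, 169), (2, 137), (3, 100), (4, 80), (5, 58), (6, 48), (10, 21), (12, 17), (15, 10),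
    (20, 5), (30, 2)], [(1, 170), (2, 138), (3, 102), (4, 81), (5, 59), (6, 52), (10, 27), (12, 18), (15, 11),
    (20, 6), (30, 4)], [(1, 171), (2, 143), (3, 107), (6, 53), (11, 19), (22, 5), (33, 1)], [(1, 172), (2, 146),
    (5, 75), (7, 47), (10, 30), (14, 17), (35, 1)]]

/-- the traces on the space of dimension 4371 -/
def valL : List ℤ :=
  [4371, -493, 275, -53, 19, 78, -3, -77, 51, 19, -21, 35, -13, 11, 3, -1, -5, 21, -4, -34, 20, 14, -7, 4, -8,
    5, -2, 13, 1, 1, 10, -21, 7, -9, 11, -1, -5, -5, 3, -1, 7, 3, -1, -1, -1, -3, 6, 7, 5, -3, 0, -1, 4, 4, -12,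
    -3, 4, 6, -6, 5, -2, 0, -4, 2, -3, 2, 1, -1, 5, 0, -3, 1, 3, -1, 3, -10, 4, -4, 2, -2, 3, 2, 3, -5, 3, -1,
    -1, 1, 1, 2, 2, 2, -2, 1, -2, 1, -7, -2, 3, 1, -1, 1, 0, -1, 2, 0, 1, 2, 0, 1, 2, 0, 0, -2, -4, -3, 2, 1,
    -2, 1, 1, 0, -1, -1, 1, -1, 1, 0, 2, -2, 0, 0, 0, -5, 1, -3, -1, -1, -2, 0, 0, 1, -1, 1, 0, -2, 0, 0, 0, -1,
    1, 0, 1, -3, -1, -1, 0, -1, 1, -1, 0, -1, 0, 0, -2, -1, -1, 0, -1, -1, 0, -1, 0]

/-- the trace on the elements of type `i` -/
def val (i : ℕ) : ℤ := valL.getD i 0

/-- the values of the character of degree 96255 -/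
def cthreeL : List ℤ :=
  [96255, 4863, 2047, 103, 255, 351, 27, 351, 223, -1, 71, 111, 31, 39, 15, -1, -9, 55, 5, 111, 57, 31, 3, 9,
    13, -5, 15, 27, 3, -5, 19, 55, 3, 19, 23, 11, 7, -1, -1, -5, 11, 7, -1, 3, -1, 0, 9, 13, 7, 3, -3, 5, 5, 5,
    25, 7, 9, 7, 11, 3, -1, 5, 1, 3, -1, 3, -1, 3, 7, -3, 3, 3, 3, -1, 3, 19, 5, 5, 3, 3, 1, 2, -1, 7, 3, -1, 3,
    1, 1, 1, 3, 1, 3, 0, 1, 1, 11, 1, 1, 3, 1, -1, 1, -1, 1, 1, 1, 1, 1, 0, -1, 1, 1, 3, 5, 1, -1, -1, -1, -1,
    1, 1, -1, 1, 0, -1, 1, 0, -1, -1, 1, 1, -1, 7, 1, 3, -1, 1, 2, 0, 0, -1, 1, -1, 1, 1, -1, 1, -1, 0, -1, 0,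
    -1, 3, 1, -1, -1, 1, -1, -1, -1, 0, -1, -1, 1, -1, 0, -1, -1, 1, -2, 1, -1]

/-- the value of the character of degree 96255 on the elements of type `i` -/
def cthree (i : ℕ) : ℤ := cthreeL.getD i 0

theorem okPow : dat.okPow = true := by decide +kernel

theorem okSep : dat.okSep val = true := by decide +kernel

theorem okSum : dat.okSum = true := by decide +kernel

/-- type 0 = 1A -/
theorem sg_1A : sg dat val 0 = (1, []) := by decide +kernel

theorem cnt_1A : dat.cnt 0 = 1 := by decide +kernel

/-- type 1 = 2A -/
theorem sg_2A : sg dat val 1 = (2, [(1, -493)]) := by decide +kernel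

theorem cnt_2A : dat.cnt 1 = 13571955000 := by decide +kernel

/-- type 2 = 2B -/
theorem sg_2B : sg dat val 2 = (2, [(1, 275)]) := by decide +kernel

theorem cnt_2B : dat.cnt 2 = 11707448673375 := by decide +kernel

/-- type 3 = 2C -/
theorem sg_2C : sg dat val 3 = (2, [(1, -53)]) := by decide +kernel

theorem cnt_2C : dat.cnt 3 = 156849238149120000 := by decide +kernel

/-- type 4 = 2D -/
theorem sg_2D : sg dat val 4 = (2, [(1, 19)]) := by decide +kernel

theorem cnt_2D : dat.cnt 4 = 355438141723665000 := by decide +kernel

/-- type 5 = 3A -/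
theorem sg_3A : sg dat val 5 = (3, [(1, 78)]) := by decide +kernel

theorem cnt_3A : dat.cnt 5 = 10725600877608960000 := by decide +kernel

/-- type 6 = 3B -/
theorem sg_3B : sg dat val 6 = (3, [(1, -3)]) := by decide +kernel

theorem cnt_3B : dat.cnt 6 = 63622675428068556800000 := by decide +kernel

/-- type 7 = 4A -/
theorem sg_4A : sg dat val 7 = (4, [(1, -77), (2, 275)]) := by decide +kernel

theorem cnt_4A : dat.cnt 7 = 11167220161790784000 := by decide +kernel

/-- type 8 = 4B -/
theorem sg_4B : sg dat val 8 = (4, [(1, 51), (2, 275)]) := by decide +kernel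

theorem cnt_4B : dat.cnt 8 = 37913401783857600000 := by decide +kernel

/-- type 9 = 4C -/
theorem sg_4C : sg dat val 9 = (4, [(1, 19), (2, 275)]) := by decide +kernel

theorem cnt_4C : dat.cnt 9 = 20473236963283104000000 := by decide +kernel

/-- type 10 = 4D -/
theorem sg_4D : sg dat val 10 = (4, [(1, -21), (2, 275)]) := by decide +kernel

theorem cnt_4D : dat.cnt 10 = 21838119427501977600000 := by decide +kernel

/-- type 11 = 4E -/
theorem sg_4E : sg dat val 11 = (4, [(1, 35), (2, 19)]) := by decide +kernel

theorem cnt_4E : dat.cnt 11 = 43676238855003955200000 := by decide +kernel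

/-- type 12 = 4F -/
theorem sg_4F : sg dat val 12 = (4, [(1, -13), (2, 275)]) := by decide +kernel

theorem cnt_4F : dat.cnt 12 = 171975190491578073600000 := by decide +kernel

/-- type 13 = 4G -/
theorem sg_4G : sg dat val 13 = (4, [(1, 11), (2, 275)]) := by decide +kernel

theorem cnt_4G : dat.cnt 13 = 687900761966312294400000 := by decide +kernel

/-- type 14 = 4H -/
theorem sg_4H : sg dat val 14 = (4, [(1, 3), (2, 19)]) := by decide +kernel

theorem cnt_4H : dat.cnt 14 = 13758015239326245888000000 := by decide +kernel

/-- type 15 = 4I -/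
theorem sg_4I : sg dat val 15 = (4, [(1, -1), (2, -53)]) := by decide +kernel

theorem cnt_4I : dat.cnt 15 = 28898887395015540080640000 := by decide +kernel

/-- type 16 = 4J -/
theorem sg_4J : sg dat val 16 = (4, [(1, -5), (2, 19)]) := by decide +kernel

theorem cnt_4J : dat.cnt 16 = 33019236574382990131200000 := by decide +kernel

/-- type 17 = 5A -/
theorem sg_5A : sg dat val 17 = (5, [(1, 21)]) := by decide +kernel

theorem cnt_5A : dat.cnt 17 = 9367743238695946498867200 := by decide +kernel

/-- type 18 = 5B -/
theorem sg_5B : sg dat val 18 = (5, [(1, -4)]) := by decide +kernel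

theorem cnt_5B : dat.cnt 18 = 692463580204404365196263424 := by decide +kernel

/-- type 19 = 6A -/
theorem sg_6A : sg dat val 19 = (6, [(1, -34), (2, 78), (3, -493)]) := by decide +kernel

theorem cnt_6A : dat.cnt 19 = 37646859080407449600000 := by decide +kernel

/-- type 20 = 6B -/
theorem sg_6B : sg dat val 20 = (6, [(1, 20), (2, 78), (3, -493)]) := by decide +kernel

theorem cnt_6B : dat.cnt 20 = 662584719815171112960000 := by decide +kernel

/-- type 21 = 6C -/
theorem sg_6C : sg dat val 21 = (6, [(1, 14), (2, 78), (3, 275)]) := by decide +kernel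

theorem cnt_6C : dat.cnt 21 = 13044636671361181286400000 := by decide +kernel

/-- type 22 = 6D -/
theorem sg_6D : sg dat val 22 = (6, [(1, -7), (2, -3), (3, -493)]) := by decide +kernel

theorem cnt_6D : dat.cnt 22 = 103068734193471062016000000 := by decide +kernel

/-- type 23 = 6E -/
theorem sg_6E : sg dat val 23 = (6, [(1, 4), (2, 78), (3, 19)]) := by decide +kernel

theorem cnt_6E : dat.cnt 23 = 208714186741778900582400000 := by decide +kernel

/-- type 24 = 6F -/
theorem sg_6F : sg dat val 24 = (6, [(1, -8), (2, 78), (3, -53)]) := by decide +kernel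

theorem cnt_6F : dat.cnt 24 = 238530499133461600665600000 := by decide +kernel

/-- type 25 = 6G -/
theorem sg_6G : sg dat val 25 = (6, [(1, 5), (2, -3), (3, 275)]) := by decide +kernel

theorem cnt_6G : dat.cnt 25 = 278285582322371867443200000 := by decide +kernel

/-- type 26 = 6H -/
theorem sg_6H : sg dat val 26 = (6, [(1, -2), (2, 78), (3, 19)]) := by decide +kernel

theorem cnt_6H : dat.cnt 26 = 391339100140835438592000000 := by decide +kernel

/-- type 27 = 6I -/
theorem sg_6I : sg dat val 27 = (6, [(1, 13), (2, -3), (3, 19)]) := by decide +kernel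

theorem cnt_6I : dat.cnt 27 = 417428373483557801164800000 := by decide +kernel

/-- type 28 = 6J -/
theorem sg_6J : sg dat val 28 = (6, [(1, 1), (2, -3), (3, 19)]) := by decide +kernel

theorem cnt_6J : dat.cnt 28 = 8348567469671156023296000000 := by decide +kernel

/-- type 29 = 6K -/
theorem sg_6K : sg dat val 29 = (6, [(1, 1), (2, -3), (3, -53)]) := by decide +kernel

theorem cnt_6K : dat.cnt 29 = 11131423292894874697728000000 := by decide +kernel

/-- type 30 = 7A -/
theorem sg_7A : sg dat val 30 = (7, [(1, 10)]) := by decide +kernel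

theorem cnt_7A : dat.cnt 30 = 7360369687546815106252800000 := by decide +kernel

/-- type 31 = 8A -/
theorem sg_8A : sg dat val 31 = (8, [(1, -21), (2, 19), (4, 275)]) := by decide +kernel

theorem cnt_8A : dat.cnt 31 = 10482297325200949248000000 := by decide +kernel

/-- type 32 = 8B -/
theorem sg_8B : sg dat val 32 = (8, [(1, 7), (2, 51), (4, 275)]) := by decide +kernel

theorem cnt_8B : dat.cnt 32 = 352205190126751894732800000 := by decide +kernel

/-- type 33 = 8C -/
theorem sg_8C : sg dat val 33 = (8, [(1, -9), (2, 51), (4, 275)]) := by decide +kernel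

theorem cnt_8C : dat.cnt 33 = 352205190126751894732800000 := by decide +kernel

/-- type 34 = 8D -/
theorem sg_8D : sg dat val 34 = (8, [(1, 11), (2, 19), (4, 275)]) := by decide +kernel

theorem cnt_8D : dat.cnt 34 = 660384731487659802624000000 := by decide +kernel

/-- type 35 = 8E -/
theorem sg_8E : sg dat val 35 = (8, [(1, -1), (2, 51), (4, 275)]) := by decide +kernel

theorem cnt_8E : dat.cnt 35 = 704410380253503789465600000 := by decide +kernel

/-- type 36 = 8F -/
theorem sg_8F : sg dat val 36 = (8, [(1, -5), (2, 19), (4, 275)]) := by decide +kernel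

theorem cnt_8F : dat.cnt 36 = 2641538925950639210496000000 := by decide +kernel

/-- type 37 = 8G -/
theorem sg_8G : sg dat val 37 = (8, [(1, -5), (2, 35), (4, 19)]) := by decide +kernel

theorem cnt_8G : dat.cnt 37 = 2817641521014015157862400000 := by decide +kernel

/-- type 38 = 8H -/
theorem sg_8H : sg dat val 38 = (8, [(1, 3), (2, 19), (4, 275)]) := by decide +kernel

theorem cnt_8H : dat.cnt 38 = 7924616777851917631488000000 := by decide +kernel

/-- type 39 = 8I -/
theorem sg_8I : sg dat val 39 = (8, [(1, -1), (2, -13), (4, 275)]) := by decide +kernel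

theorem cnt_8I : dat.cnt 39 = 21132311407605113683968000000 := by decide +kernel

/-- type 40 = 8J -/
theorem sg_8J : sg dat val 40 = (8, [(1, 7), (2, 3), (4, 19)]) := by decide +kernel

theorem cnt_8J : dat.cnt 40 = 42264622815210227367936000000 := by decide +kernel

/-- type 41 = 8K -/
theorem sg_8K : sg dat val 41 = (8, [(1, 3), (2, 35), (4, 19)]) := by decide +kernel

theorem cnt_8K : dat.cnt 41 = 42264622815210227367936000000 := by decide +kernel

/-- type 42 = 8L -/
theorem sg_8L : sg dat val 42 = (8, [(1, -1), (2, 11), (4, 275)]) := by decide +kernel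

theorem cnt_8L : dat.cnt 42 = 50717547378252272841523200000 := by decide +kernel

/-- type 43 = 8M -/
theorem sg_8M : sg dat val 43 = (8, [(1, -1), (2, 3), (4, 19)]) := by decide +kernel

theorem cnt_8M : dat.cnt 43 = 126793868445630682103808000000 := by decide +kernel

/-- type 44 = 8N -/
theorem sg_8N : sg dat val 44 = (8, [(1, -1), (2, -5), (4, 19)]) := by decide +kernel

theorem cnt_8N : dat.cnt 44 = 338116982521681818943488000000 := by decide +kernel

/-- type 45 = 9A -/
theorem sg_9A : sg dat val 45 = (9, [(1, -3), (3, -3)]) := by decide +kernel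

theorem cnt_9A : dat.cnt 45 = 237470363581757326884864000000 := by decide +kernel

/-- type 46 = 9B -/
theorem sg_9B : sg dat val 46 = (9, [(1, 6), (3, -3)]) := by decide +kernel

theorem cnt_9B : dat.cnt 46 = 356205545372635990327296000000 := by decide +kernel

/-- type 47 = 10A -/
theorem sg_10A : sg dat val 47 = (10, [(1, 7), (2, 21), (5, -493)]) := by decide +kernel

theorem cnt_10A : dat.cnt 47 = 10304517562565541148753920000 := by decide +kernel

/-- type 48 = 10B -/
theorem sg_10B : sg dat val 48 = (10, [(1, 5), (2, 21), (5, 275)]) := by decide +kernel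

theorem cnt_10B : dat.cnt 48 = 54098717203469091030958080000 := by decide +kernel

/-- type 49 = 10C -/
theorem sg_10C : sg dat val 49 = (10, [(1, -3), (2, 21), (5, -53)]) := by decide +kernel

theorem cnt_10C : dat.cnt 49 = 144263245875917576082554880000 := by decide +kernel

/-- type 50 = 10D -/
theorem sg_10D : sg dat val 50 = (10, [(1, 0), (2, -4), (5, 275)]) := by decide +kernel

theorem cnt_10D : dat.cnt 50 = 173115895051101091299065856000 := by decide +kernel

/-- type 51 = 10E -/
theorem sg_10E : sg dat val 51 = (10, [(1, -1), (2, 21), (5, 19)]) := by decide +kernel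

theorem cnt_10E : dat.cnt 51 = 216394868813876364123832320000 := by decide +kernel

/-- type 52 = 10F -/
theorem sg_10F : sg dat val 52 = (10, [(1, 4), (2, -4), (5, 19)]) := by decide +kernel

theorem cnt_10F : dat.cnt 52 = 432789737627752728247664640000 := by decide +kernel

/-- type 53 = 11A -/
theorem sg_11A : sg dat val 53 = (11, [(1, 4)]) := by decide +kernel

theorem cnt_11A : dat.cnt 53 = 3147561728201838023619379200000 := by decide +kernel

/-- type 54 = 12A -/
theorem sg_12A : sg dat val 54 = (12, [(1, -12), (2, 14), (3, 51), (4, 78), (6, 275)]) := by decide +kernel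

theorem cnt_12A : dat.cnt 54 = 1043570933708894502912000000 := by decide +kernel

/-- type 55 = 12B -/
theorem sg_12B : sg dat val 55 = (12, [(1, -3), (2, 5), (3, 51), (4, -3), (6, 275)]) := by decide +kernel

theorem cnt_12B : dat.cnt 55 = 5565711646447437348864000000 := by decide +kernel

/-- type 56 = 12C -/
theorem sg_12C : sg dat val 56 = (12, [(1, 4), (2, 14), (3, -77), (4, 78), (6, 275)]) := by decide +kernel

theorem cnt_12C : dat.cnt 56 = 5635283042028030315724800000 := by decide +kernel

/-- type 57 = 12D -/
theorem sg_12D : sg dat val 57 = (12, [(1, 6), (2, 14), (3, 51), (4, 78), (6, 275)]) := by decide +kernel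

theorem cnt_12D : dat.cnt 57 = 6261425602253367017472000000 := by decide +kernel

/-- type 58 = 12E -/
theorem sg_12E : sg dat val 58 = (12, [(1, -6), (2, 14), (3, -21), (4, 78), (6, 275)]) := by decide +kernel

theorem cnt_12E : dat.cnt 58 = 15027421445408080841932800000 := by decide +kernel

/-- type 59 = 12F -/
theorem sg_12F : sg dat val 59 = (12, [(1, 5), (2, 13), (3, 35), (4, -3), (6, 19)]) := by decide +kernel

theorem cnt_12F : dat.cnt 59 = 30054842890816161683865600000 := by decide +kernel

/-- type 60 = 12G -/
theorem sg_12G : sg dat val 60 = (12, [(1, -2), (2, 14), (3, 19), (4, 78), (6, 275)]) := by decide +kernel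

theorem cnt_12G : dat.cnt 60 = 56352830420280303157248000000 := by decide +kernel

/-- type 61 = 12H -/
theorem sg_12H : sg dat val 61 = (12, [(1, 0), (2, 14), (3, -21), (4, 78), (6, 275)]) := by decide +kernel

theorem cnt_12H : dat.cnt 61 = 75137107227040404209664000000 := by decide +kernel

/-- type 62 = 12I -/
theorem sg_12I : sg dat val 62 = (12, [(1, -4), (2, 14), (3, -13), (4, 78), (6, 275)]) := by decide +kernel

theorem cnt_12I : dat.cnt 62 = 112705660840560606314496000000 := by decide +kernel

/-- type 63 = 12J -/
theorem sg_12J : sg dat val 63 = (12, [(1, 2), (2, -2), (3, 35), (4, 78), (6, 19)]) := by decide +kernel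

theorem cnt_12J : dat.cnt 63 = 150274214454080808419328000000 := by decide +kernel

/-- type 64 = 12K -/
theorem sg_12K : sg dat val 64 = (12, [(1, -3), (2, 5), (3, -21), (4, -3), (6, 275)]) := by decide +kernel

theorem cnt_12K : dat.cnt 64 = 200365619272107744559104000000 := by decide +kernel

/-- type 65 = 12L -/
theorem sg_12L : sg dat val 65 = (12, [(1, 2), (2, 14), (3, 11), (4, 78), (6, 275)]) := by decide +kernel

theorem cnt_12L : dat.cnt 65 = 225411321681121212628992000000 := by decide +kernel

/-- type 66 = 12M -/
theorem sg_12M : sg dat val 66 = (12, [(1, 1), (2, 5), (3, 19), (4, -3), (6, 275)]) := by decide +kernel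

theorem cnt_12M : dat.cnt 66 = 300548428908161616838656000000 := by decide +kernel

/-- type 67 = 12N -/
theorem sg_12N : sg dat val 67 = (12, [(1, -1), (2, 1), (3, 35), (4, -3), (6, 19)]) := by decide +kernel

theorem cnt_12N : dat.cnt 67 = 400731238544215489118208000000 := by decide +kernel

/-- type 68 = 12O -/
theorem sg_12O : sg dat val 68 = (12, [(1, 5), (2, 5), (3, -13), (4, -3), (6, 275)]) := by decide +kernel

theorem cnt_12O : dat.cnt 68 = 450822643362242425257984000000 := by decide +kernel

/-- type 69 = 12P -/
theorem sg_12P : sg dat val 69 = (12, [(1, 0), (2, -2), (3, 3), (4, 78), (6, 19)]) := by decide +kernel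

theorem cnt_12P : dat.cnt 69 = 450822643362242425257984000000 := by decide +kernel

/-- type 70 = 12Q -/
theorem sg_12Q : sg dat val 70 = (12, [(1, -3), (2, 13), (3, 3), (4, -3), (6, 19)]) := by decide +kernel

theorem cnt_12Q : dat.cnt 70 = 450822643362242425257984000000 := by decide +kernel

/-- type 71 = 12R -/
theorem sg_12R : sg dat val 71 = (12, [(1, 1), (2, 13), (3, -5), (4, -3), (6, 19)]) := by decide +kernel

theorem cnt_12R : dat.cnt 71 = 2704935860173454551547904000000 := by decide +kernel

/-- type 72 = 12S -/
theorem sg_12S : sg dat val 72 = (12, [(1, 3), (2, 1), (3, 3), (4, -3), (6, 19)]) := by decide +kernel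

theorem cnt_12S : dat.cnt 72 = 3606581146897939402063872000000 := by decide +kernel

/-- type 73 = 12T -/
theorem sg_12T : sg dat val 73 = (12, [(1, -1), (2, 1), (3, -1), (4, -3), (6, -53)]) := by decide +kernel

theorem cnt_12T : dat.cnt 73 = 4808774862530585869418496000000 := by decide +kernel

/-- type 74 = 13A -/
theorem sg_13A : sg dat val 74 = (13, [(1, 3)]) := by decide +kernel

theorem cnt_13A : dat.cnt 74 = 13316607311623160869158912000000 := by decide +kernel

/-- type 75 = 14A -/
theorem sg_14A : sg dat val 75 = (14, [(1, -10), (2, 10), (7, -493)]) := by decide +kernel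

theorem cnt_14A : dat.cnt 75 = 7360369687546815106252800000 := by decide +kernel

/-- type 76 = 14B -/
theorem sg_14B : sg dat val 76 = (14, [(1, 4), (2, 10), (7, -493)]) := by decide +kernel

theorem cnt_14B : dat.cnt 76 = 883244362505617812750336000000 := by decide +kernel

/-- type 77 = 14C -/
theorem sg_14C : sg dat val 77 = (14, [(1, -4), (2, 10), (7, -53)]) := by decide +kernel

theorem cnt_14C : dat.cnt 77 = 883244362505617812750336000000 := by decide +kernel

/-- type 78 = 14D -/
theorem sg_14D : sg dat val 78 = (14, [(1, 2), (2, 10), (7, 275)]) := by decide +kernel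

theorem cnt_14D : dat.cnt 78 = 2318516451577246758469632000000 := by decide +kernel

/-- type 79 = 14E -/
theorem sg_14E : sg dat val 79 = (14, [(1, -2), (2, 10), (7, 19)]) := by decide +kernel

theorem cnt_14E : dat.cnt 79 = 2318516451577246758469632000000 := by decide +kernel

/-- type 80 = 15A -/
theorem sg_15A : sg dat val 80 = (15, [(1, 3), (3, 21), (5, 78)]) := by decide +kernel

theorem cnt_15A : dat.cnt 80 = 1154105967007340608660439040000 := by decide +kernel

/-- type 81 = 15B -/
theorem sg_15B : sg dat val 81 = (15, [(1, 2), (3, -4), (5, -3)]) := by decide +kernel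

theorem cnt_15B : dat.cnt 81 = 34623179010220218259813171200000 := by decide +kernel

/-- type 82 = 16A -/
theorem sg_16A : sg dat val 82 = (16, [(1, 3), (2, 11), (4, 19), (8, 275)]) := by decide +kernel

theorem cnt_16A : dat.cnt 82 = 338116982521681818943488000000 := by decide +kernel

/-- type 83 = 16B -/
theorem sg_16B : sg dat val 83 = (16, [(1, -5), (2, 11), (4, 19), (8, 275)]) := by decide +kernel

theorem cnt_16B : dat.cnt 83 = 338116982521681818943488000000 := by decide +kernel

/-- type 84 = 16CF -/
theorem sg_16CF : sg dat val 84 = (16, [(1, 3), (2, 3), (4, 19), (8, 275)]) := by decide +kernel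

theorem cnt_16CF : dat.cnt 84 = 6086105685390272740982784000000 := by decide +kernel

/-- type 85 = 16D -/
theorem sg_16D : sg dat val 85 = (16, [(1, -1), (2, 3), (4, 19), (8, 275)]) := by decide +kernel

theorem cnt_16D : dat.cnt 85 = 2028701895130090913660928000000 := by decide +kernel

/-- type 86 = 16E -/
theorem sg_16E : sg dat val 86 = (16, [(1, -1), (2, 11), (4, 19), (8, 275)]) := by decide +kernel

theorem cnt_16E : dat.cnt 86 = 2028701895130090913660928000000 := by decide +kernel

/-- type 87 = 16G -/
theorem sg_16G : sg dat val 87 = (16, [(1, 1), (2, -1), (4, 3), (8, 19)]) := by decide +kernel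

theorem cnt_16G : dat.cnt 87 = 16229615161040727309287424000000 := by decide +kernel

/-- type 88 = 16H -/
theorem sg_16H : sg dat val 88 = (16, [(1, 1), (2, 7), (4, 3), (8, 19)]) := by decide +kernel

theorem cnt_16H : dat.cnt 88 = 16229615161040727309287424000000 := by decide +kernel

/-- type 89 = 17A -/
theorem sg_17A : sg dat val 89 = (17, [(1, 2)]) := by decide +kernel

theorem cnt_17A : dat.cnt 89 = 61099727665094502811435008000000 := by decide +kernel

/-- type 90 = 18AB -/
theorem sg_18AB : sg dat val 90 = (18, [(1, 2), (2, 6), (3, -7), (6, -3), (9, -493)]) := by decide +kernel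

theorem cnt_18AB : dat.cnt 90 = 9617549725061171738836992000000 := by decide +kernel

/-- type 91 = 18C -/
theorem sg_18C : sg dat val 91 = (18, [(1, 2), (2, 6), (3, 5), (6, -3), (9, 275)]) := by decide +kernel

theorem cnt_18C : dat.cnt 91 = 9617549725061171738836992000000 := by decide +kernel

/-- type 92 = 18D -/
theorem sg_18D : sg dat val 92 = (18, [(1, -2), (2, 6), (3, 1), (6, -3), (9, 19)]) := by decide +kernel

theorem cnt_18D : dat.cnt 92 = 9617549725061171738836992000000 := by decide +kernel

/-- type 93 = 18E -/
theorem sg_18E : sg dat val 93 = (18, [(1, 1), (2, -3), (3, 1), (6, -3), (9, 19)]) := by decide +kernel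

theorem cnt_18E : dat.cnt 93 = 19235099450122343477673984000000 := by decide +kernel

/-- type 94 = 18F -/
theorem sg_18F : sg dat val 94 = (18, [(1, -2), (2, 6), (3, 1), (6, -3), (9, -53)]) := by decide +kernel

theorem cnt_18F : dat.cnt 94 = 19235099450122343477673984000000 := by decide +kernel

/-- type 95 = 19A -/
theorem sg_19A : sg dat val 95 = (19, [(1, 1)]) := by decide +kernel

theorem cnt_19A : dat.cnt 95 = 109336354769116478715199488000000 := by decide +kernel

/-- type 96 = 20A -/
theorem sg_20A : sg dat val 96 = (20, [(1, -7), (2, 5), (4, 21), (5, -77), (10, 275)]) := by decide +kernel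

theorem cnt_20A : dat.cnt 96 = 108197434406938182061916160000 := by decide +kernel

/-- type 97 = 20B -/
theorem sg_20B : sg dat val 97 = (20, [(1, -2), (2, 0), (4, -4), (5, -77), (10, 275)]) := by decide +kernel

theorem cnt_20B : dat.cnt 97 = 1038695370306606547794395136000 := by decide +kernel

/-- type 98 = 20C -/
theorem sg_20C : sg dat val 98 = (20, [(1, 3), (2, 5), (4, 21), (5, -77), (10, 275)]) := by decide +kernel

theorem cnt_20C : dat.cnt 98 = 1298369212883258184742993920000 := by decide +kernel

/-- type 99 = 20D -/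
theorem sg_20D : sg dat val 99 = (20, [(1, 1), (2, 5), (4, 21), (5, 51), (10, 275)]) := by decide +kernel

theorem cnt_20D : dat.cnt 99 = 1622961516104072730928742400000 := by decide +kernel

/-- type 100 = 20E -/
theorem sg_20E : sg dat val 100 = (20, [(1, -1), (2, 5), (4, 21), (5, -21), (10, 275)]) := by decide +kernel

theorem cnt_20E : dat.cnt 100 = 4327897376277527282476646400000 := by decide +kernel

/-- type 101 = 20F -/
theorem sg_20F : sg dat val 101 = (20, [(1, 1), (2, 5), (4, 21), (5, 11), (10, 275)]) := by decide +kernel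

theorem cnt_20F : dat.cnt 101 = 6491846064416290923714969600000 := by decide +kernel

/-- type 102 = 20G -/
theorem sg_20G : sg dat val 102 = (20, [(1, 0), (2, 4), (4, -4), (5, 35), (10, 19)]) := by decide +kernel

theorem cnt_20G : dat.cnt 102 = 8655794752555054564953292800000 := by decide +kernel

/-- type 103 = 20H -/
theorem sg_20H : sg dat val 103 = (20, [(1, -1), (2, -3), (4, 21), (5, -1), (10, -53)]) := by decide +kernel

theorem cnt_20H : dat.cnt 103 = 10386953703066065477943951360000 := by decide +kernel

/-- type 104 = 20I -/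
theorem sg_20I : sg dat val 104 = (20, [(1, 2), (2, 0), (4, -4), (5, -13), (10, 275)]) := by decide +kernel

theorem cnt_20I : dat.cnt 104 = 25967384257665163694859878400000 := by decide +kernel

/-- type 105 = 20J -/
theorem sg_20J : sg dat val 105 = (20, [(1, 0), (2, 4), (4, -4), (5, -5), (10, 19)]) := by decide +kernel

theorem cnt_20J : dat.cnt 105 = 51934768515330327389719756800000 := by decide +kernel

/-- type 106 = 21A -/
theorem sg_21A : sg dat val 106 = (21, [(1, 1), (3, 10), (7, 78)]) := by decide +kernel

theorem cnt_21A : dat.cnt 106 = 16487228100104865838006272000000 := by decide +kernel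

/-- type 107 = 22A -/
theorem sg_22A : sg dat val 107 = (22, [(1, 2), (2, 4), (11, -493)]) := by decide +kernel

theorem cnt_22A : dat.cnt 107 = 31475617282018380236193792000000 := by decide +kernel

/-- type 108 = 22B -/
theorem sg_22B : sg dat val 108 = (22, [(1, 0), (2, 4), (11, 275)]) := by decide +kernel

theorem cnt_22B : dat.cnt 108 = 47213425923027570354290688000000 := by decide +kernel

/-- type 109 = 23AB -/
theorem sg_23AB : sg dat val 109 = (23, [(1, 1)]) := by decide +kernel

theorem cnt_23AB : dat.cnt 109 = 180642673096801138746851328000000 := by decide +kernel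

/-- type 110 = 24A -/
theorem sg_24A : sg dat val 110 = (24, [(1, 2), (2, 6), (3, -1), (4, 14), (6, 51), (8, 78), (12, 275)]) := by decide +kernel

theorem cnt_24A : dat.cnt 110 = 1803290573448969701031936000000 := by decide +kernel

/-- type 111 = 24B -/
theorem sg_24B : sg dat val 111 = (24, [(1, 0), (2, -2), (3, -21), (4, 14), (6, 19), (8, 78), (12, 275)]) := by decide +kernel

theorem cnt_24B : dat.cnt 111 = 1803290573448969701031936000000 := by decide +kernel

/-- type 112 = 24C -/
theorem sg_24C : sg dat val 112 = (24, [(1, 0), (2, 6), (3, -9), (4, 14), (6, 51), (8, 78), (12, 275)]) := by decide +kernel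

theorem cnt_24C : dat.cnt 112 = 1803290573448969701031936000000 := by decide +kernel

/-- type 113 = 24D -/
theorem sg_24D : sg dat val 113 = (24, [(1, -2), (2, 6), (3, 7), (4, 14), (6, 51), (8, 78), (12, 275)]) := by decide +kernel

theorem cnt_24D : dat.cnt 113 = 1803290573448969701031936000000 := by decide +kernel

/-- type 114 = 24E -/
theorem sg_24E : sg dat val 114 = (24, [(1, -4), (2, 6), (3, -1), (4, 14), (6, 51), (8, 78), (12, 275)]) := by decide +kernel

theorem cnt_24E : dat.cnt 114 = 1803290573448969701031936000000 := by decide +kernel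

/-- type 115 = 24F -/
theorem sg_24F : sg dat val 115 = (24, [(1, -3), (2, 1), (3, -21), (4, 5), (6, 19), (8, -3), (12, 275)]) := by decide +kernel

theorem cnt_24F : dat.cnt 115 = 2404387431265292934709248000000 := by decide +kernel

/-- type 116 = 24G -/
theorem sg_24G : sg dat val 116 = (24, [(1, 2), (2, -2), (3, 11), (4, 14), (6, 19), (8, 78), (12, 275)]) := by decide +kernel

theorem cnt_24G : dat.cnt 116 = 5409871720346909103095808000000 := by decide +kernel

/-- type 117 = 24H -/
theorem sg_24H : sg dat val 117 = (24, [(1, 1), (2, 5), (3, -5), (4, 13), (6, 35), (8, -3), (12, 19)]) := by decide +kernel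

theorem cnt_24H : dat.cnt 117 = 7213162293795878804127744000000 := by decide +kernel

/-- type 118 = 24I -/
theorem sg_24I : sg dat val 118 = (24, [(1, -2), (2, 2), (3, -5), (4, -2), (6, 35), (8, 78), (12, 19)]) := by decide +kernel

theorem cnt_24I : dat.cnt 118 = 7213162293795878804127744000000 := by decide +kernel

/-- type 119 = 24J -/
theorem sg_24J : sg dat val 119 = (24, [(1, 1), (2, -3), (3, 7), (4, 13), (6, 3), (8, -3), (12, 19)]) := by decide +kernel

theorem cnt_24J : dat.cnt 119 = 21639486881387636412383232000000 := by decide +kernel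

/-- type 120 = 24K -/
theorem sg_24K : sg dat val 120 = (24, [(1, 1), (2, 1), (3, -5), (4, 5), (6, 19), (8, -3), (12, 275)]) := by decide +kernel

theorem cnt_24K : dat.cnt 120 = 21639486881387636412383232000000 := by decide +kernel

/-- type 121 = 24L -/
theorem sg_24L : sg dat val 121 = (24, [(1, 0), (2, 2), (3, 3), (4, -2), (6, 35), (8, 78), (12, 19)]) := by decide +kernel

theorem cnt_24L : dat.cnt 121 = 21639486881387636412383232000000 := by decide +kernel

/-- type 122 = 24M -/
theorem sg_24M : sg dat val 122 = (24, [(1, -1), (2, 1), (3, -1), (4, 13), (6, -5), (8, -3), (12, 19)]) := by decide +kernel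

theorem cnt_24M : dat.cnt 122 = 43278973762775272824766464000000 := by decide +kernel

/-- type 123 = 24N -/
theorem sg_24N : sg dat val 123 = (24, [(1, -1), (2, 5), (3, -1), (4, 5), (6, -13), (8, -3), (12, 275)]) := by decide +kernel

theorem cnt_24N : dat.cnt 123 = 43278973762775272824766464000000 := by decide +kernel

/-- type 124 = 25A -/
theorem sg_25A : sg dat val 124 = (25, [(1, 1), (5, -4)]) := by decide +kernel

theorem cnt_25A : dat.cnt 124 = 166191259249057047647103221760000 := by decide +kernel

/-- type 125 = 26A -/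
theorem sg_26A : sg dat val 125 = (26, [(1, -1), (2, 3), (13, -53)]) := by decide +kernel

theorem cnt_26A : dat.cnt 125 = 39949821934869482607476736000000 := by decide +kernel

/-- type 126 = 26B -/
theorem sg_26B : sg dat val 126 = (26, [(1, 1), (2, 3), (13, -493)]) := by decide +kernel

theorem cnt_26B : dat.cnt 126 = 79899643869738965214953472000000 := by decide +kernel

/-- type 127 = 27A -/
theorem sg_27A : sg dat val 127 = (27, [(1, 0), (3, -3), (9, -3)]) := by decide +kernel

theorem cnt_27A : dat.cnt 127 = 153880795600978747821391872000000 := by decide +kernel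

/-- type 128 = 28A -/
theorem sg_28A : sg dat val 128 = (28, [(1, 2), (2, 2), (4, 10), (7, 51), (14, 275)]) := by decide +kernel

theorem cnt_28A : dat.cnt 128 = 9274065806308987033878528000000 := by decide +kernel

/-- type 129 = 28B -/
theorem sg_28B : sg dat val 129 = (28, [(1, -2), (2, 2), (4, 10), (7, 19), (14, 275)]) := by decide +kernel

theorem cnt_28B : dat.cnt 129 = 9274065806308987033878528000000 := by decide +kernel

/-- type 130 = 28C -/
theorem sg_28C : sg dat val 130 = (28, [(1, 0), (2, 2), (4, 10), (7, -77), (14, 275)]) := by decide +kernel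

theorem cnt_28C : dat.cnt 130 = 18548131612617974067757056000000 := by decide +kernel

/-- type 131 = 28D -/
theorem sg_28D : sg dat val 131 = (28, [(1, 0), (2, 2), (4, 10), (7, -21), (14, 275)]) := by decide +kernel

theorem cnt_28D : dat.cnt 131 = 18548131612617974067757056000000 := by decide +kernel

/-- type 132 = 28E -/
theorem sg_28E : sg dat val 132 = (28, [(1, 0), (2, -2), (4, 10), (7, 35), (14, 19)]) := by decide +kernel

theorem cnt_28E : dat.cnt 132 = 37096263225235948135514112000000 := by decide +kernel

/-- type 133 = 30A -/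
theorem sg_30A : sg dat val 133 = (30, [(1, -5), (2, 3), (3, 7), (5, 20), (6, 21), (10, 78), (15, -493)]) := by decide +kernel

theorem cnt_30A : dat.cnt 133 = 1154105967007340608660439040000 := by decide +kernel

/-- type 134 = 30B -/
theorem sg_30B : sg dat val 134 = (30, [(1, 1), (2, 3), (3, 7), (5, -34), (6, 21), (10, 78), (15, -493)]) := by decide +kernel

theorem cnt_30B : dat.cnt 134 = 11541059670073406086604390400000 := by decide +kernel

/-- type 135 = 30C -/
theorem sg_30C : sg dat val 135 = (30, [(1, -3), (2, 3), (3, -3), (5, -8), (6, 21), (10, 78), (15, -53)]) := by decide +kernel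

theorem cnt_30C : dat.cnt 135 = 11541059670073406086604390400000 := by decide +kernel

/-- type 136 = 30D -/
theorem sg_30D : sg dat val 136 = (30, [(1, -1), (2, 3), (3, -1), (5, 4), (6, 21), (10, 78), (15, 19)]) := by decide +kernel

theorem cnt_30D : dat.cnt 136 = 17311589505110109129906585600000 := by decide +kernel

/-- type 137 = 30E -/
theorem sg_30E : sg dat val 137 = (30, [(1, -1), (2, 3), (3, 5), (5, 14), (6, 21), (10, 78), (15, 275)]) := by decide +kernel

theorem cnt_30E : dat.cnt 137 = 17311589505110109129906585600000 := by decide +kernel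

/-- type 138 = 30F -/
theorem sg_30F : sg dat val 138 = (30, [(1, -2), (2, 2), (3, 4), (5, 13), (6, -4), (10, -3), (15, 19)]) := by decide +kernel

theorem cnt_30F : dat.cnt 138 = 34623179010220218259813171200000 := by decide +kernel

/-- type 139 = 30GH -/
theorem sg_30GH : sg dat val 139 = (30, [(1, 0), (2, 2), (3, 0), (5, 5), (6, -4), (10, -3), (15, 275)]) := by decide +kernel

theorem cnt_30GH : dat.cnt 139 = 138492716040880873039252684800000 := by decide +kernel

/-- type 140 = 31AB -/
theorem sg_31AB : sg dat val 140 = (31, [(1, 0)]) := by decide +kernel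

theorem cnt_31AB : dat.cnt 140 = 268050418143640399430811648000000 := by decide +kernel

/-- type 141 = 32AB -/
theorem sg_32AB : sg dat val 141 = (32, [(1, 1), (2, -1), (4, 3), (8, 19), (16, 275)]) := by decide +kernel

theorem cnt_32AB : dat.cnt 141 = 64918460644162909237149696000000 := by decide +kernel

/-- type 142 = 32CD -/
theorem sg_32CD : sg dat val 142 = (32, [(1, -1), (2, 3), (4, 3), (8, 19), (16, 275)]) := by decide +kernel

theorem cnt_32CD : dat.cnt 142 = 64918460644162909237149696000000 := by decide +kernel

/-- type 143 = 33A -/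
theorem sg_33A : sg dat val 143 = (33, [(1, 1), (3, 4), (11, 78)]) := by decide +kernel

theorem cnt_33A : dat.cnt 143 = 62951234564036760472387584000000 := by decide +kernel

/-- type 144 = 34AB -/
theorem sg_34AB : sg dat val 144 = (34, [(1, 0), (2, 2), (17, -493)]) := by decide +kernel

theorem cnt_34AB : dat.cnt 144 = 122199455330189005622870016000000 := by decide +kernel

/-- type 145 = 34C -/
theorem sg_34C : sg dat val 145 = (34, [(1, -2), (2, 2), (17, -53)]) := by decide +kernel

theorem cnt_34C : dat.cnt 145 = 61099727665094502811435008000000 := by decide +kernel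

/-- type 146 = 35A -/
theorem sg_35A : sg dat val 146 = (35, [(1, 0), (5, 10), (7, 21)]) := by decide +kernel

theorem cnt_35A : dat.cnt 146 = 59354021160377517016822579200000 := by decide +kernel

/-- type 147 = 36A -/
theorem sg_36A : sg dat val 147 = (36, [(1, 0), (2, 2), (3, -3), (4, 6), (6, 5), (9, 51), (12, -3), (18, 275)]) := by decide +kernel

theorem cnt_36A : dat.cnt 147 = 19235099450122343477673984000000 := by decide +kernel

/-- type 148 = 36B -/
theorem sg_36B : sg dat val 148 = (36, [(1, 0), (2, 2), (3, -3), (4, 6), (6, 5), (9, -21), (12, -3), (18, 275)]) := by decide +kernel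

theorem cnt_36B : dat.cnt 148 = 57705298350367030433021952000000 := by decide +kernel

/-- type 149 = 36C -/
theorem sg_36C : sg dat val 149 = (36, [(1, -1), (2, 1), (3, -1), (4, -3), (6, 1), (9, 35), (12, -3), (18, 19)]) := by decide +kernel

theorem cnt_36C : dat.cnt 149 = 115410596700734060866043904000000 := by decide +kernel

/-- type 150 = 38A -/
theorem sg_38A : sg dat val 150 = (38, [(1, 1), (2, 1), (19, -493)]) := by decide +kernel

theorem cnt_38A : dat.cnt 150 = 109336354769116478715199488000000 := by decide +kernel

/-- type 151 = 39A -/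
theorem sg_39A : sg dat val 151 = (39, [(1, 0), (3, 3), (13, 78)]) := by decide +kernel

theorem cnt_39A : dat.cnt 151 = 106532858492985286953271296000000 := by decide +kernel

/-- type 152 = 40A -/
theorem sg_40A : sg dat val 152 = (40, [(1, 1), (2, 1), (4, 5), (5, -9), (8, 21), (10, 51), (20, 275)]) := by decide +kernel

theorem cnt_40A : dat.cnt 152 = 12983692128832581847429939200000 := by decide +kernel

/-- type 153 = 40B -/
theorem sg_40B : sg dat val 153 = (40, [(1, -3), (2, 1), (4, 5), (5, 7), (8, 21), (10, 51), (20, 275)]) := by decide +kernel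

theorem cnt_40B : dat.cnt 153 = 12983692128832581847429939200000 := by decide +kernel

/-- type 154 = 40C -/
theorem sg_40C : sg dat val 154 = (40, [(1, -1), (2, 1), (4, 5), (5, -1), (8, 21), (10, 51), (20, 275)]) := by decide +kernel

theorem cnt_40C : dat.cnt 154 = 25967384257665163694859878400000 := by decide +kernel

/-- type 155 = 40D -/
theorem sg_40D : sg dat val 155 = (40, [(1, -1), (2, 1), (4, 5), (5, -1), (8, 21), (10, 11), (20, 275)]) := by decide +kernel

theorem cnt_40D : dat.cnt 155 = 51934768515330327389719756800000 := by decide +kernel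

/-- type 156 = 40E -/
theorem sg_40E : sg dat val 156 = (40, [(1, 0), (2, 0), (4, 4), (5, -5), (8, -4), (10, 35), (20, 19)]) := by decide +kernel

theorem cnt_40E : dat.cnt 156 = 103869537030660654779439513600000 := by decide +kernel

/-- type 157 = 42A -/
theorem sg_42A : sg dat val 157 = (42, [(1, -1), (2, 1), (3, -10), (6, 10), (7, 20), (14, 78), (21, -493)]) := by decide +kernel

theorem cnt_42A : dat.cnt 157 = 16487228100104865838006272000000 := by decide +kernel

/-- type 158 = 42B -/
theorem sg_42B : sg dat val 158 = (42, [(1, 1), (2, 1), (3, 4), (6, 10), (7, -34), (14, 78), (21, -493)]) := by decide +kernel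

theorem cnt_42B : dat.cnt 158 = 49461684300314597514018816000000 := by decide +kernel

/-- type 159 = 42C -/
theorem sg_42C : sg dat val 159 = (42, [(1, -1), (2, 1), (3, -4), (6, 10), (7, -8), (14, 78), (21, -53)]) := by decide +kernel

theorem cnt_42C : dat.cnt 159 = 49461684300314597514018816000000 := by decide +kernel

/-- type 160 = 44A -/
theorem sg_44A : sg dat val 160 = (44, [(1, 0), (2, 0), (4, 4), (11, -77), (22, 275)]) := by decide +kernel

theorem cnt_44A : dat.cnt 160 = 94426851846055140708581376000000 := by decide +kernel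

/-- type 161 = 46AB -/
theorem sg_46AB : sg dat val 161 = (46, [(1, -1), (2, 1), (23, 275)]) := by decide +kernel

theorem cnt_46AB : dat.cnt 161 = 180642673096801138746851328000000 := by decide +kernel

/-- type 162 = 47AB -/
theorem sg_47AB : sg dat val 162 = (47, [(1, 0)]) := by decide +kernel

theorem cnt_47AB : dat.cnt 162 = 176799211967081965582024704000000 := by decide +kernel

/-- type 163 = 48A -/
theorem sg_48A : sg dat val 163 = (48, [(1, 0), (2, 2), (3, 3), (4, -2), (6, 11), (8, 14), (12, 19), (16, 78), (24, 275)]) := by decide +kernel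

theorem cnt_48A : dat.cnt 163 = 43278973762775272824766464000000 := by decide +kernel

/-- type 164 = 48B -/
theorem sg_48B : sg dat val 164 = (48, [(1, -2), (2, 2), (3, -5), (4, -2), (6, 11), (8, 14), (12, 19), (16, 78), (24, 275)]) := by decide +kernel

theorem cnt_48B : dat.cnt 164 = 43278973762775272824766464000000 := by decide +kernel

/-- type 165 = 52A -/
theorem sg_52A : sg dat val 165 = (52, [(1, -1), (2, -1), (4, 3), (13, -1), (26, -53)]) := by decide +kernel

theorem cnt_52A : dat.cnt 165 = 79899643869738965214953472000000 := by decide +kernel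

/-- type 166 = 55A -/
theorem sg_55A : sg dat val 166 = (55, [(1, -1), (5, 4), (11, 21)]) := by decide +kernel

theorem cnt_55A : dat.cnt 166 = 75541481476844112566865100800000 := by decide +kernel

/-- type 167 = 56AB -/
theorem sg_56AB : sg dat val 167 = (56, [(1, 0), (2, -2), (4, 2), (7, -21), (8, 10), (14, 19), (28, 275)]) := by decide +kernel

theorem cnt_56AB : dat.cnt 167 = 74192526450471896271028224000000 := by decide +kernel

/-- type 168 = 60A -/
theorem sg_60A : sg dat val 168 = (60, [(1, -1), (2, -1), (3, -7), (4, 3), (5, 4), (6, 5), (10, 14), (12, 21), (15, -77), (20, 78), (30, 275)]) := by decide +kernel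

theorem cnt_60A : dat.cnt 168 = 34623179010220218259813171200000 := by decide +kernel

/-- type 169 = 60B -/
theorem sg_60B : sg dat val 169 = (60, [(1, -1), (2, -1), (3, -1), (4, 3), (5, -6), (6, 5), (10, 14), (12, 21), (15, -21), (20, 78), (30, 275)]) := by decide +kernel

theorem cnt_60B : dat.cnt 169 = 34623179010220218259813171200000 := by decide +kernel

/-- type 170 = 60C -/
theorem sg_60C : sg dat val 170 = (60, [(1, 0), (2, -2), (3, 0), (4, 2), (5, 5), (6, 4), (10, 13), (12, -4), (15, 35), (20, -3), (30, 19)]) := by decide +kernel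

theorem cnt_60C : dat.cnt 170 = 69246358020440436519626342400000 := by decide +kernel

/-- type 171 = 66A -/
theorem sg_66A : sg dat val 171 = (66, [(1, -1), (2, 1), (3, 2), (6, 4), (11, -34), (22, 78), (33, -493)]) := by decide +kernel

theorem cnt_66A : dat.cnt 171 = 62951234564036760472387584000000 := by decide +kernel

/-- type 172 = 70A -/
theorem sg_70A : sg dat val 172 = (70, [(1, 0), (2, 0), (5, -10), (7, 7), (10, 10), (14, 21), (35, -493)]) := by decide +kernel

theorem cnt_70A : dat.cnt 172 = 59354021160377517016822579200000 := by decide +kernel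

end Cfsg.Agent.TAB.B
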